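import Cfsg.Agent.H10.Walter.Structure
import Cfsg.Agent.S0205

/-!
# The local groups of a configuration

For a proper subgroup `H` of a configuration: `H / O(H)` is core-free with abelian Sylow 2-subgroups,
its components are simple with the shapes of the classification and `F*` has odd index.
-/

set_option autoImplicit false
set_option linter.unusedSectionVars false
set_option linter.style.haveILetI false

namespace Cfsg.Agent.H10.Walter

open Subgroup Cfsg.Agent

universe u

variable {G : Type u} [Group G] [Finite G]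

/-- `O(C(a))`, as a subgroup of `G`. -/
abbrev coreAt (a : G) : Subgroup G :=
  (Cfsg.oddCore ↥(centralizer ({a} : Set G))).map (centralizer ({a} : Set G)).subtype

/-- `H` modulo its odd core. -/
abbrev Bar (H : Subgroup G) : Type u :=
  ↥H ⧸ Cfsg.oddCore ↥H

theorem oddCore_bar (H : Subgroup G) : Cfsg.oddCore (Bar H) = ⊥ :=
  Cores.pPrimeCore_quotient_pPrimeCore

theorem Cfg.absyl_subgroup (h : Cfg G) (H : Subgroup G) : AbSyl ↥H :=
  h.absyl.subgroup H

theorem Cfg.absyl_bar (h : Cfg G) (H : Subgroup G) : AbSyl (Bar H) :=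
  (h.absyl.subgroup H).surj (QuotientGroup.mk' _) (QuotientGroup.mk'_surjective _)

theorem Cfg.card_bar_lt (_h : Cfg G) {H : Subgroup G} (hH : H ≠ ⊤) :
    Nat.card (Bar H) < Nat.card G :=
  (Nat.card_le_card_of_surjective (QuotientGroup.mk' (Cfsg.oddCore ↥H))
    (QuotientGroup.mk'_surjective _)).trans_lt
    ((Subgroup.card_le_card_group H).lt_of_ne fun e => hH (H.card_eq_iff_eq_top.1 e))

theorem Cfg.component_simple_bar (h : Cfg G) (H : Subgroup G) {L : Subgroup (Bar H)}
    (hL : Cfsg.IsComponent L) : IsSimpleGroup ↥L ∧ ¬ IsMulCommutative ↥L :=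
  component_simple (h.absyl_bar H) (oddCore_bar H) hL

theorem Cfg.component_shape_bar (h : Cfg G) {H : Subgroup G} (hH : H ≠ ⊤) {L : Subgroup (Bar H)}
    (hL : Cfsg.IsComponent L) : Shape ↥L :=
  component_shape h.small (h.card_bar_lt hH) (h.absyl_bar H) (oddCore_bar H) hL

theorem Cfg.not_solvable (h : Cfg G) : ¬ Group.IsSolvable G := fun hs =>
  h.nonab ⟨⟨fun a b => by
    haveI := h.simple
    exact IsSimpleGroup.comm_iff_isSolvable.2 hs a b⟩⟩

theorem Cfg.even_card (h : Cfg G) : Even (Nat.card G) := by
  by_contra he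
  exact h.not_solvable (Cfsg.Agent.S0205.result (Nat.not_even_iff_odd.1 he))

theorem Cfg.oddCore_eq_bot (h : Cfg G) : Cfsg.oddCore G = ⊥ := by
  haveI := h.simple
  rcases (show (Cfsg.oddCore G).Normal from inferInstance).eq_bot_or_eq_top with e | e
  · exact e
  · exfalso
    have h1 : Odd (Nat.card G) := by
      have := Cores.odd_card_oddCore (G := G)
      rwa [e, card_top] at this
    exact Nat.not_even_iff_odd.2 h1 h.even_card

/-- A centraliser of a non-identity element is proper. -/
theorem Cfg.centralizer_ne_top (h : Cfg G) {a : G} (ha : a ≠ 1) :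
    centralizer ({a} : Set G) ≠ ⊤ := by
  intro e
  haveI := h.simple
  have hc : a ∈ center G := mem_center_iff.2 fun g =>
    mem_centralizer_singleton_iff.1 (show g ∈ centralizer ({a} : Set G) from e ▸ mem_top g)
  rcases (show (center G).Normal from inferInstance).eq_bot_or_eq_top with e' | e'
  · exact ha (by rwa [e', mem_bot] at hc)
  · exact h.nonab ⟨⟨fun x y => ((mem_center_iff.1 (e' ▸ mem_top x : x ∈ center G)) y).symm⟩⟩

/-- Some involution centraliser has a component modulo its core. -/
def HasComp (G : Type u) [Group G] [Finite G] : Prop :=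
  ∃ t : G, orderOf t = 2 ∧ ∃ L : Subgroup (Bar (centralizer ({t} : Set G))), Cfsg.IsComponent L

/-- All cores of involution centralisers are trivial. -/
def CoresTrivial (G : Type u) [Group G] [Finite G] : Prop :=
  ∀ t : G, orderOf t = 2 → Cfsg.oddCore ↥(centralizer ({t} : Set G)) = ⊥

/-- No subgroup is strongly embedded. -/
def NoSE (G : Type u) [Group G] : Prop :=
  ∀ H : Subgroup G, ¬ Cfsg.IsStronglyEmbedded H

/-- The cores step in rank at least four. -/
def CoresStepLarge : Prop :=
  ∀ (G : Type u) [Group G] [Finite G], Cfg G → NoSE G → HasComp G →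
    ¬ Cfsg.PRankLE 2 3 G → CoresTrivial G

/-- The cores step in rank three. -/
def CoresStepThree : Prop :=
  ∀ (G : Type u) [Group G] [Finite G], Cfg G → NoSE G → HasComp G →
    ¬ Cfsg.PRankLE 2 2 G → Cfsg.PRankLE 2 3 G → CoresTrivial G

/-- The components step. -/
def CompStep : Prop :=
  ∀ (G : Type u) [Group G] [Finite G], Cfg G → NoSE G → HasComp G →
    ¬ Cfsg.PRankLE 2 2 G → CoresTrivial G → IsTypeR G

end Cfsg.Agent.H10.Walter
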