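import Cfsg.Agent.H10.Walter.Local
import Cfsg.Agent.Fusion.Basic
import Cfsg.Agent.H39.Dihedral

/-!
# The dihedral lemma

Let `M` contain the normaliser of an abelian Sylow 2-subgroup and the centralisers of an involution
`x` and of the products that dihedral groups over `x` and a conjugate of `z` produce. Then every
conjugate of `z` lies in `M`.
-/

set_option autoImplicit false
set_option linter.unusedSectionVars false
set_option linter.style.haveILetI false

namespace Cfsg.Agent.H10.Walter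

open Subgroup Cfsg.Agent

universe u

variable {G : Type u} [Group G] [Finite G]

/-- An involution of `M` conjugate to `a ∈ S` has its centraliser in `M` if that of every conjugate
of `a` in `S` is there. -/
theorem centralizer_le_of_conj (h : AbSyl G) (S : Sylow 2 G) {M : Subgroup G}
    (hN : normalizer ((S : Subgroup G) : Set G) ≤ M) {a w : G} (ha : a ∈ (S : Subgroup G))
    (hw : w ∈ M) (hw2 : orderOf w = 2) (hconj : IsConj a w)
    (hC : centralizer ({a} : Set G) ≤ M) : centralizer ({w} : Set G) ≤ M := by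
  haveI : Fact (Nat.Prime 2) := ⟨Nat.prime_two⟩
  have hSM : (S : Subgroup G) ≤ M := le_normalizer.trans hN
  -- move `w` into `S` inside `M`
  have hp : IsPGroup 2 ↥(zpowers (⟨w, hw⟩ : ↥M)) := by
    refine IsPGroup.of_card (n := 1) ?_
    rw [Nat.card_zpowers, Subgroup.orderOf_mk, hw2, pow_one]
  obtain ⟨P, hP⟩ := hp.exists_le_sylow
  obtain ⟨m, hm⟩ := MulAction.exists_smul_eq ↥M P (S.subtype hSM)
  have hmw : (m : G) * w * (m : G)⁻¹ ∈ (S : Subgroup G) := by
    have h1 : m * ⟨w, hw⟩ * m⁻¹ ∈ ((m • P : Sylow 2 ↥M) : Subgroup ↥M) :=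
      ⟨⟨w, hw⟩, hP (mem_zpowers _), rfl⟩
    rw [hm] at h1
    exact h1
  obtain ⟨g, hg⟩ := isConj_iff.1 hconj
  have e : (m : G) * g * a * ((m : G) * g)⁻¹ = (m : G) * w * (m : G)⁻¹ := by
    rw [← hg]; simp [mul_assoc]
  obtain ⟨n, hn, hna⟩ := Fusion.controlsElementFusion_normalizer_of_commutative S (h S) a ha
    ((m : G) * g) (e ▸ hmw)
  intro c hc
  have hca : (n⁻¹ * m) * c * (n⁻¹ * m)⁻¹ ∈ centralizer ({a} : Set G) := by
    rw [mem_centralizer_singleton_iff]
    have hw' : a = (n⁻¹ * m) * w * (n⁻¹ * m)⁻¹ := by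
      have : n * a * n⁻¹ = (m : G) * w * (m : G)⁻¹ := by rw [hna, e]
      calc a = n⁻¹ * (n * a * n⁻¹) * n := by group
        _ = _ := by rw [this]; group
    have hcw : c * w = w * c := mem_centralizer_singleton_iff.1 hc
    rw [hw']
    calc (n⁻¹ * m) * c * (n⁻¹ * m)⁻¹ * ((n⁻¹ * m) * w * (n⁻¹ * m)⁻¹)
        = (n⁻¹ * m) * (c * w) * (n⁻¹ * m)⁻¹ := by group
      _ = (n⁻¹ * m) * (w * c) * (n⁻¹ * m)⁻¹ := by rw [hcw]
      _ = _ := by group
  have hnm : n⁻¹ * (m : G) ∈ M := mul_mem (inv_mem (hN hn)) m.2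
  have := mul_mem (mul_mem (inv_mem hnm) (hC hca)) hnm
  rwa [show (n⁻¹ * (m : G))⁻¹ * ((n⁻¹ * m) * c * (n⁻¹ * m)⁻¹) * (n⁻¹ * m) = c by group] at this

/-- The dihedral lemma: every conjugate of `z` lies in `M`. -/
theorem conj_mem_of_good (h : AbSyl G) (S : Sylow 2 G) {M : Subgroup G}
    (hN : normalizer ((S : Subgroup G) : Set G) ≤ M) {x z : G}
    (hx : orderOf x = 2) (hz : orderOf z = 2) (hne : ¬ IsConj x z)
    (hCx : centralizer ({x} : Set G) ≤ M)
    (hzz : ∀ a ∈ (S : Subgroup G), ∀ b ∈ (S : Subgroup G), IsConj z a → IsConj z b → a ≠ b →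
      centralizer ({a * b} : Set G) ≤ M)
    (hxz : ∀ a ∈ (S : Subgroup G), ∀ b ∈ (S : Subgroup G), IsConj x a → IsConj z b →
      centralizer ({a * b} : Set G) ≤ M)
    {c : G} (hc : IsConj z c) : c ∈ M := by
  haveI : Fact (Nat.Prime 2) := ⟨Nat.prime_two⟩
  have hc2 : orderOf c = 2 := by
    obtain ⟨g, rfl⟩ := isConj_iff.1 hc
    rw [show g * z * g⁻¹ = MulAut.conj g z from rfl, MulEquiv.orderOf_eq, hz]
  have hxx : x * x = 1 := by rw [← sq, ← hx, pow_orderOf_eq_one]
  have hcc : c * c = 1 := by rw [← sq, ← hc2, pow_orderOf_eq_one]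
  have hxi : x⁻¹ = x := inv_eq_of_mul_eq_one_right hxx
  have hci : c⁻¹ = c := inv_eq_of_mul_eq_one_right hcc
  set d := x * c with hd
  have hxd : x * d * x⁻¹ = d⁻¹ := by
    rw [hd, mul_inv_rev, hxi, hci, ← mul_assoc, hxx, one_mul]
  have hcd : c * d * c⁻¹ = d⁻¹ := by
    rw [hd, mul_inv_rev, hci, hxi, mul_assoc, mul_assoc, hcc, mul_one]
  have hxp : ∀ i : ℤ, x * d ^ i * x⁻¹ = d ^ (-i) := fun i => by
    rw [← conj_zpow, hxd, inv_zpow, zpow_neg]
  have hcp : ∀ i : ℤ, c * d ^ i * c⁻¹ = d ^ (-i) := fun i => by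
    rw [← conj_zpow, hcd, inv_zpow, zpow_neg]
  -- the dihedral group has a central involution
  have hdfin : 0 < orderOf d := orderOf_pos d
  have heven : Even (orderOf d) := by
    by_contra he
    obtain ⟨k, -, -, -, hk⟩ := H39.exists_conj_of_odd (a := c) (b := x) hc2 hx
      (Nat.not_even_iff_odd.1 he)
    exact hne ((isConj_iff.2 ⟨k, hk⟩ : IsConj c x).symm.trans hc.symm)
  obtain ⟨k, hk⟩ := heven
  set w := d ^ (k : ℤ) with hw
  have hwi : w⁻¹ = w := by
    rw [hw, ← zpow_neg, ← mul_left_cancel_iff (a := d ^ (k : ℤ)), ← zpow_add, ← zpow_add, add_neg_cancel,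
      zpow_zero, ← two_mul]
    rw [show (2 : ℤ) * k = ((k + k : ℕ) : ℤ) by push_cast; ring, zpow_natCast, ← hk, pow_orderOf_eq_one]
  have hw1 : w ≠ 1 := fun e => by
    rw [hw, zpow_natCast] at e
    have := Nat.le_of_dvd (by omega) (orderOf_dvd_of_pow_eq_one e)
    omega
  have hw2 : orderOf w = 2 := orderOf_eq_prime (by
    rw [sq]
    calc w * w = w * w⁻¹ := by rw [hwi]
      _ = 1 := mul_inv_cancel w) hw1
  have hxw : x * w = w * x := by
    have := hxp k
    rw [zpow_neg, ← hw, hwi, mul_inv_eq_iff_eq_mul] at this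
    exact this
  have hcw : c * w = w * c := by
    have := hcp k
    rw [zpow_neg, ← hw, hwi, mul_inv_eq_iff_eq_mul] at this
    exact this
  have hwM : w ∈ M := hCx (mem_centralizer_singleton_iff.2 hxw.symm)
  suffices hCw : centralizer ({w} : Set G) ≤ M from hCw (mem_centralizer_singleton_iff.2 hcw)
  -- a product of two commuting involutions moved into `S`
  have key : ∀ a b : G, orderOf a = 2 → orderOf b = 2 → a * b = b * a → a * b = w →
      (∀ a' ∈ (S : Subgroup G), ∀ b' ∈ (S : Subgroup G), IsConj a a' → IsConj b b' → a' ≠ b' →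
        centralizer ({a' * b'} : Set G) ≤ M) → centralizer ({w} : Set G) ≤ M := by
    intro a b ha hb hab habw hgood
    have hp : IsPGroup 2 ↥(Subgroup.zpowers a ⊔ Subgroup.zpowers b) := by
      refine IsPGroup.to_sup_of_normal_right' (IsPGroup.of_card (n := 1) (by rw [Nat.card_zpowers, ha, pow_one]))
        (IsPGroup.of_card (n := 1) (by rw [Nat.card_zpowers, hb, pow_one])) ?_
      refine zpowers_le.2 ?_
      rw [mem_normalizer_iff]
      intro y
      have hby : ∀ y ∈ Subgroup.zpowers b, a * y * a⁻¹ = y := fun y hy => by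
        obtain ⟨i, rfl⟩ := mem_zpowers_iff.1 hy
        rw [((show Commute a b from hab).zpow_right i).eq, mul_inv_cancel_right]
      refine ⟨fun hy => by rw [hby y hy]; exact hy, fun hy => ?_⟩
      have h3 : a * y * a⁻¹ = y := mul_left_cancel (mul_right_cancel (hby _ hy))
      rwa [h3] at hy
    obtain ⟨P, hP⟩ := hp.exists_le_sylow
    obtain ⟨g, hg⟩ := MulAction.exists_smul_eq G P S
    have hmem : ∀ y ∈ Subgroup.zpowers a ⊔ Subgroup.zpowers b, g * y * g⁻¹ ∈ (S : Subgroup G) :=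
      fun y hy => hg ▸ ⟨y, hP hy, rfl⟩
    have haS := hmem a (mem_sup_left (mem_zpowers a))
    have hbS := hmem b (mem_sup_right (mem_zpowers b))
    have hne' : g * a * g⁻¹ ≠ g * b * g⁻¹ := fun e => by
      rw [mul_left_cancel (mul_right_cancel e), ← sq, ← hb, pow_orderOf_eq_one] at habw
      exact hw1 habw.symm
    refine centralizer_le_of_conj h S hN (mul_mem haS hbS) hwM hw2 (isConj_iff.2 ⟨g⁻¹, ?_⟩)
      (hgood _ haS _ hbS (isConj_iff.2 ⟨g, rfl⟩) (isConj_iff.2 ⟨g, rfl⟩) hne')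
    rw [← habw]; group
  rcases Nat.even_or_odd k with ⟨j, hj⟩ | ⟨j, hj⟩
  · -- `c` and `c * w` are conjugates of `z`
    have hcw' : IsConj c (c * w) := isConj_iff.2 ⟨(d ^ (j : ℤ))⁻¹, by
      have e : c * d ^ (j : ℤ) = d ^ (-(j : ℤ)) * c := mul_inv_eq_iff_eq_mul.1 (hcp j)
      rw [inv_inv, ← zpow_neg, ← e, mul_assoc, ← zpow_add, hw, hj]
      push_cast; rfl⟩
    refine key c (c * w) hc2 ?_ (by rw [← mul_assoc, hcc, one_mul, mul_assoc, hcw.symm, ← mul_assoc, hcc, one_mul])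
      (by rw [← mul_assoc, hcc, one_mul]) fun a' ha' b' hb' hca hcb hab' =>
        hzz a' ha' b' hb' (hc.trans hca) ((hc.trans hcw').trans hcb) hab'
    obtain ⟨g, hg⟩ := isConj_iff.1 hcw'
    rw [← hg, H39.orderOf_conj, hc2]
  · -- `x` and `x * w` are conjugate to `x` and `z`
    have hxw' : IsConj c (x * w) := isConj_iff.2 ⟨(d ^ (j : ℤ))⁻¹, by
      have e : ∀ i : ℤ, c * d ^ i = d ^ (-i) * c := fun i => mul_inv_eq_iff_eq_mul.1 (hcp i)
      calc (d ^ (j : ℤ))⁻¹ * c * (d ^ (j : ℤ))⁻¹⁻¹ = c * (d ^ (j : ℤ) * d ^ (j : ℤ)) := by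
            rw [inv_inv, ← zpow_neg, ← e, mul_assoc]
        _ = d ^ (-((j : ℤ) + j)) * c := by rw [← zpow_add, e]
        _ = d * (c * w) := by
            rw [hw, e, ← mul_assoc, ← zpow_one_add]
            congr 2; rw [hj]; push_cast; ring
        _ = x * w := by rw [hd, mul_assoc x c, ← mul_assoc c c, hcc, one_mul]⟩
    refine key x (x * w) hx ?_ (by rw [← mul_assoc, hxx, one_mul, mul_assoc, hxw.symm, ← mul_assoc, hxx, one_mul])
      (by rw [← mul_assoc, hxx, one_mul]) fun a' ha' b' hb' hca hcb _ =>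
        hxz a' ha' b' hb' hca ((hc.trans hxw').trans hcb)
    obtain ⟨g, hg⟩ := isConj_iff.1 hxw'
    rw [← hg, H39.orderOf_conj, hc2]

end Cfsg.Agent.H10.Walter
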