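import Cfsg.Agent.H10.Walter.Inputs
import Cfsg.Agent.H10.Walter.Comp.Final
import Cfsg.Agent.H88.Walter.Large

/-!
# Simple groups with abelian Sylow 2-subgroups: what remains

Gorenstein-Walter for Klein Sylow 2-subgroups, the facts about the pieces and the cores step in
rank three.
-/

set_option autoImplicit false

namespace Cfsg.Agent.H10.Walter

universe u

/-- The classification from the Klein case, the piece data and the cores step in rank three. -/
theorem walter_of_data (hK : AbTwo.GWKleinHyp.{u}) (hd : H88.Walter.ShapeData.{u})
    (hthree : CoresStepThree.{u}) : WalterHyp.{u} :=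
  walter hK (H88.Walter.coresStepLarge hd) hthree (compStep hd)

end Cfsg.Agent.H10.Walter
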