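import Cfsg.Prelude.Def_LocalEven
import Cfsg.Agent.H10.AbTwo.Sylow

/-!
# Simple groups with abelian Sylow 2-subgroups: the setting

`Shape G` is the conclusion in the centraliser form (nothing is said about the order of a group of
type R or about the characteristic of its field), `Cfg` a minimal counterexample configuration.
-/

set_option autoImplicit false
set_option linter.unusedSectionVars false

namespace Cfsg.Agent.H10.Walter

open Subgroup

universe u v

/-- All Sylow 2-subgroups are abelian. -/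
def AbSyl (X : Type*) [Group X] : Prop :=
  ∀ T : Sylow 2 X, IsMulCommutative ↥(T : Subgroup X)

/-- `G` is `PSL₂` over a field with `2 ^ n ≥ 4` elements. -/
def IsEvenPSL (G : Type*) [Group G] : Prop :=
  ∃ (F : Type) (_ : Field F) (_ : Fintype F) (n : ℕ), 2 ≤ n ∧ Fintype.card F = 2 ^ n ∧
    Nonempty (G ≃* Matrix.ProjectiveSpecialLinearGroup (Fin 2) F)

/-- `G` is `PSL₂` over a field with `q ≥ 5` elements, `q ≡ 3, 5 (mod 8)`. -/
def IsOddPSL (G : Type*) [Group G] : Prop :=
  ∃ (F : Type) (_ : Field F) (_ : Fintype F), 5 ≤ Fintype.card F ∧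
    (Fintype.card F % 8 = 3 ∨ Fintype.card F % 8 = 5) ∧
    Nonempty (G ≃* Matrix.ProjectiveSpecialLinearGroup (Fin 2) F)

/-- Type R: Sylow 2-subgroups of order 8, one class of involutions, and an involution centraliser
`⟨t⟩ × E`, `E` between `PSL₂(q)` and its automorphism group, `q ≡ 3, 5 (mod 8)`. -/
def IsTypeR (G : Type*) [Group G] : Prop :=
  (∀ T : Sylow 2 G, Nat.card ↥(T : Subgroup G) = 8) ∧
  (∀ a b : G, orderOf a = 2 → orderOf b = 2 → IsConj a b) ∧
  ∃ (t : G) (E E₀ : Subgroup G), orderOf t = 2 ∧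
    Cfsg.IsInternalDirectProduct (zpowers t) E (centralizer ({t} : Set G)) ∧
    E₀ ≤ E ∧ (E₀.subgroupOf E).Normal ∧ IsOddPSL ↥E₀ ∧ E ⊓ centralizer (E₀ : Set G) = ⊥

/-- The conclusion of the classification of simple groups with abelian Sylow 2-subgroups. -/
def Shape (G : Type*) [Group G] : Prop :=
  IsEvenPSL G ∨ IsOddPSL G ∨ IsTypeR G

/-- Every simple group with abelian Sylow 2-subgroups and order below `n` has the shape. -/
def Small (n : ℕ) : Prop :=
  ∀ (X : Type u) [Group X] [Finite X], Nat.card X < n → IsSimpleGroup X →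
    ¬ IsMulCommutative X → AbSyl X → Shape X

/-- A simple group with abelian Sylow 2-subgroups whose smaller such groups have the shape. -/
structure Cfg (G : Type u) [Group G] [Finite G] : Prop where
  simple : IsSimpleGroup G
  nonab : ¬ IsMulCommutative G
  absyl : AbSyl G
  small : Small.{u} (Nat.card G)

/-- The classification, as a hypothesis for the consumers. -/
def WalterHyp : Prop :=
  ∀ (G : Type u) [Group G] [Finite G], IsSimpleGroup G → ¬ IsMulCommutative G → AbSyl G → Shape G

/-- The classification follows from the configuration being impossible otherwise. -/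
theorem walterHyp_of_cfg (h : ∀ (G : Type u) [Group G] [Finite G], Cfg G → Shape G) :
    WalterHyp.{u} := by
  suffices key : ∀ n : ℕ, Small.{u} n from
    fun G _ _ hs hn ha => key (Nat.card G + 1) G (Nat.lt_succ_self _) hs hn ha
  intro n
  induction n with
  | zero => intro X _ _ hX; exact absurd hX (Nat.not_lt_zero _)
  | succ n ih =>
    intro X _ _ hX hs hn ha
    exact h X ⟨hs, hn, ha, fun Y _ _ hY => ih Y (by omega)⟩

section Closure

variable {X : Type*} [Group X] {Y : Type*} [Group Y]

theorem absyl_of_sylow [Finite X] (S : Sylow 2 X) (hS : IsMulCommutative ↥(S : Subgroup X)) :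
    AbSyl X := fun T => by
  haveI : Fact (Nat.Prime 2) := ⟨Nat.prime_two⟩
  exact ⟨⟨fun a b => Subtype.ext (AbTwo.comm_of_sylow S hS T.isPGroup' a.2 b.2).eq⟩⟩

theorem AbSyl.comm [Finite X] (h : AbSyl X) {Q : Subgroup X} (hQ : IsPGroup 2 Q) {a b : X}
    (ha : a ∈ Q) (hb : b ∈ Q) : Commute a b := by
  haveI : Fact (Nat.Prime 2) := ⟨Nat.prime_two⟩
  obtain ⟨S⟩ : Nonempty (Sylow 2 X) := inferInstance
  exact AbTwo.comm_of_sylow S (h S) hQ ha hb

theorem AbSyl.subgroup [Finite X] (h : AbSyl X) (H : Subgroup X) : AbSyl ↥H := fun T => by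
  refine ⟨⟨fun a b => Subtype.ext (Subtype.ext ?_)⟩⟩
  exact (h.comm (T.isPGroup'.map H.subtype) (mem_map_of_mem _ a.2) (mem_map_of_mem _ b.2)).eq

theorem AbSyl.surj [Finite X] (h : AbSyl X) (f : X →* Y) (hf : Function.Surjective f) :
    AbSyl Y := by
  haveI : Fact (Nat.Prime 2) := ⟨Nat.prime_two⟩
  haveI : Finite Y := Finite.of_surjective f hf
  obtain ⟨S⟩ : Nonempty (Sylow 2 X) := inferInstance
  refine absyl_of_sylow (S.mapSurjective hf) ⟨⟨fun a b => Subtype.ext ?_⟩⟩
  obtain ⟨a', ha', ea⟩ := (show (a : Y) ∈ (S : Subgroup X).map f from by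
    rw [← Sylow.coe_mapSurjective hf S]; exact a.2)
  obtain ⟨b', hb', eb⟩ := (show (b : Y) ∈ (S : Subgroup X).map f from by
    rw [← Sylow.coe_mapSurjective hf S]; exact b.2)
  show (a : Y) * b = b * a
  rw [← ea, ← eb, ← map_mul, ← map_mul, (h.comm S.isPGroup' ha' hb').eq]

theorem Small.mono {m n : ℕ} (h : Small.{u} n) (hmn : m ≤ n) : Small.{u} m :=
  fun X _ _ hX => h X (hX.trans_le hmn)

end Closure

end Cfsg.Agent.H10.Walter
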