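import Cfsg.Agent.H10.Walter.Assembly
import Cfsg.Agent.H50.Walter.ShapeData
import Cfsg.Agent.H77.Walter.CoresThree
import Cfsg.Agent.S0483

/-!
# Walter's theorem

A non-abelian simple group with abelian Sylow 2-subgroups is `PSL₂(2ⁿ)`, `PSL₂(q)` with
`q ≡ 3, 5 (mod 8)`, or of type R.
-/

set_option autoImplicit false

namespace Cfsg.Agent.H10.Walter

universe u

theorem gwKlein : AbTwo.GWKleinHyp.{u} := fun _ _ _ _ T hT =>
  Cfsg.Agent.S0483.result T 2 le_rfl hT

/-- Walter's theorem, with type R given by an involution centraliser. -/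
theorem walterHyp : WalterHyp.{u} :=
  walter_of_data gwKlein H50.Walter.shapeData
    (H77.Walter.coresStepThree H50.Walter.shapeData)

end Cfsg.Agent.H10.Walter
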