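import Cfsg.Agent.H10.Walter.Main
import Cfsg.Agent.Bridge.Bender
import Cfsg.Agent.S1221

/-!
# Simple groups with abelian Sylow 2-subgroups: the inputs that are proved

Bender's theorem and the core theorem for strongly embedded subgroups are inserted; the
Gorenstein-Walter theorem for Klein Sylow 2-subgroups and the three steps remain.
-/

set_option autoImplicit false

namespace Cfsg.Agent.H10.Walter

universe u

theorem seCore : AbTwo.SECoreHyp.{u} := fun _ _ _ H hH => Cfsg.Agent.S1221.result H hH

/-- The classification from Gorenstein-Walter for Klein Sylow 2-subgroups and the three steps. -/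
theorem walter (hK : AbTwo.GWKleinHyp.{u}) (hlarge : CoresStepLarge.{u})
    (hthree : CoresStepThree.{u}) (hcomp : CompStep.{u}) : WalterHyp.{u} :=
  walter_of_steps seCore Cfsg.Agent.Bridge.bender hK hlarge hthree hcomp

end Cfsg.Agent.H10.Walter
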