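import Cfsg.Agent.H10.Walter.Local
import Cfsg.Agent.H10.AbTwo.Reduce

/-!
# Simple groups with abelian Sylow 2-subgroups: assembly

The classification follows from the three steps, Bender's theorem, the core theorem for strongly
embedded subgroups and Gorenstein-Walter for Klein Sylow 2-subgroups.
-/

set_option autoImplicit false
set_option linter.unusedSectionVars false
set_option linter.style.haveILetI false

namespace Cfsg.Agent.H10.Walter

open Subgroup Cfsg.Agent

universe u

variable {G : Type u} [Group G] [Finite G]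

local instance fact_two' : Fact (Nat.Prime 2) := ⟨Nat.prime_two⟩

theorem shape_of_goodField {F : Type} [Field F] [Fintype F] (hF : AbTwo.GoodField F)
    (he : Nonempty (G ≃* Matrix.ProjectiveSpecialLinearGroup (Fin 2) F)) : Shape G := by
  rcases hF with ⟨h8, h5⟩ | ⟨n, hn, hc⟩
  · exact Or.inr (Or.inl ⟨F, _, _, h5, h8, he⟩)
  · exact Or.inl ⟨F, _, _, n, hn, hc, he⟩

/-- A strongly embedded subgroup gives `PSL₂(2ⁿ)`. -/
theorem shape_of_se (hBend : H76.PostBender.BenderHyp.{u}) (h : Cfg G) {H : Subgroup G}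
    (hH : Cfsg.IsStronglyEmbedded H) : Shape G := by
  haveI := h.simple
  obtain ⟨S⟩ : Nonempty (Sylow 2 G) := inferInstance
  have hna : ∃ a b : G, a * b ≠ b * a := by
    by_contra hc
    push Not at hc
    exact h.nonab ⟨⟨hc⟩⟩
  rcases hBend G hna H hH with ⟨F, _, _, hc, h4, he⟩ | h' | ⟨F, _, _, q, hF, hq, -, ⟨e⟩⟩
  · obtain ⟨n, -, hn⟩ := FiniteField.card F 2
    refine Or.inl ⟨F, _, _, n, ?_, hn, he⟩
    by_contra hlt
    have := Nat.pow_le_pow_right (show 1 ≤ 2 by norm_num) (Nat.lt_succ_iff.1 (not_le.1 hlt))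
    omega
  · exact absurd (h.absyl S) (AbTwo.sz_sylow_nonabelian h' S)
  · haveI := H76.PostBender.charP_two_of_card hF hq
    exact absurd (h.absyl S) (AbTwo.psu_sylow_nonabelian hF e S)

/-- Without components modulo cores, involution centralisers are solvable. -/
theorem solvable_centralizer_of_no_comp (h : Cfg G) (hc : ¬ HasComp G) {t : G} (ht : orderOf t = 2) :
    Group.IsSolvable ↥(centralizer ({t} : Set G)) := by
  set C := centralizer ({t} : Set G)
  haveI hO : Group.IsSolvable ↥(Cfsg.oddCore ↥C) :=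
    Cfsg.Agent.S0205.result Cores.odd_card_oddCore
  have hE : Cfsg.layer (Bar C) = ⊥ :=
    Components.layer_eq_bot_iff.mpr fun L hL => hc ⟨t, ht, L, hL⟩
  have hodd := odd_index_genFitting (h.absyl_bar C) (oddCore_bar C)
  rw [Components.genFitting_eq_sup, hE, bot_sup_eq] at hodd
  haveI : Group.IsSolvable (Bar C ⧸ Cfsg.fittingSubgroup (Bar C)) :=
    Cfsg.Agent.S0205.result hodd
  haveI : Group.IsSolvable (Bar C) := Group.isSolvable_of_ker_le_range
    (Cfsg.fittingSubgroup (Bar C)).subtype (QuotientGroup.mk' (Cfsg.fittingSubgroup (Bar C)))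
    (by rw [QuotientGroup.ker_mk', range_subtype])
  exact Group.isSolvable_of_ker_le_range (Cfsg.oddCore ↥C).subtype
    (QuotientGroup.mk' (Cfsg.oddCore ↥C))
    (by rw [QuotientGroup.ker_mk', range_subtype])

/-- The classification from the steps. -/
theorem walter_of_steps (hB : AbTwo.SECoreHyp.{u}) (hBend : H76.PostBender.BenderHyp.{u})
    (hK : AbTwo.GWKleinHyp.{u}) (hlarge : CoresStepLarge.{u}) (hthree : CoresStepThree.{u})
    (hcomp : CompStep.{u}) : WalterHyp.{u} := by
  refine walterHyp_of_cfg fun G _ _ h => ?_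
  haveI := h.simple
  obtain ⟨S⟩ : Nonempty (Sylow 2 G) := inferInstance
  by_cases h2 : Cfsg.PRankLE 2 2 G
  · obtain ⟨F, _, _, hF, he⟩ := AbTwo.rank_two_case S hK h.nonab (h.absyl S) h2
    exact shape_of_goodField hF he
  by_cases hse : ∃ H : Subgroup G, Cfsg.IsStronglyEmbedded H
  · exact shape_of_se hBend h hse.choose_spec
  have hno : NoSE G := fun H hH => hse ⟨H, hH⟩
  by_cases hc : HasComp G
  · refine Or.inr (Or.inr (hcomp G h hno hc h2 ?_))
    by_cases h3 : Cfsg.PRankLE 2 3 G
    · exact hthree G h hno hc h2 h3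
    · exact hlarge G h hno hc h3
  · obtain ⟨F, _, _, hF, he⟩ := AbTwo.rank_three_case S hB hBend h.nonab (h.absyl S)
      (fun t ht => solvable_centralizer_of_no_comp h hc ht) h2
    exact shape_of_goodField hF he

end Cfsg.Agent.H10.Walter
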