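import Cfsg.Agent.H10.Walter.Setting
import Cfsg.Agent.Components.Layer
import Cfsg.Agent.Components.PLocal
import Cfsg.Agent.Components.PComponent
import Cfsg.Agent.Components.CyclicSylow
import Cfsg.Agent.S4593
import Cfsg.Agent.S0542

/-!
# Groups with abelian Sylow 2-subgroups and trivial odd core

The components are simple, every Sylow 2-subgroup lies in `O₂(X) E(X)`, so `F*(X)` has odd index;
the components of a group that is small enough have the shapes of the classification.
-/

set_option autoImplicit false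
set_option linter.unusedSectionVars false
set_option linter.style.haveILetI false

namespace Cfsg.Agent.H10.Walter

open Subgroup Cfsg.Agent
open scoped Pointwise

universe u

variable {X : Type u} [Group X] [Finite X]

local instance fact_two : Fact (Nat.Prime 2) := ⟨Nat.prime_two⟩

/-- Components are simple. -/
theorem component_simple (h : AbSyl X) (hO : Cfsg.oddCore X = ⊥) {L : Subgroup X}
    (hL : Cfsg.IsComponent L) : IsSimpleGroup ↥L ∧ ¬ IsMulCommutative ↥L := by
  haveI : Group.IsPerfect ↥L := hL.2.1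
  obtain ⟨P⟩ : Nonempty (Sylow 2 ↥L) := inferInstance
  haveI : IsMulCommutative ↥(P : Subgroup ↥L) := h.subgroup L P
  have hodd : Odd (Nat.card ↥(center ↥L)) := by
    by_contra he
    obtain ⟨z, hz⟩ := exists_prime_orderOf_dvd_card' (G := ↥(center ↥L)) 2
      (Nat.not_odd_iff_even.1 he).two_dvd
    have h1 : (z : ↥L) = 1 := Components.eq_one_of_perfect_center P z.2
      (by rw [← Subgroup.coe_pow, ← hz, pow_orderOf_eq_one, Subgroup.coe_one])
    rw [show z = 1 from Subtype.ext h1, orderOf_one] at hz
    omega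
  have hz : center ↥L = ⊥ := le_bot_iff.1
    ((Components.pPrimeCore_component (p := 2) hO hL) ▸ Cores.le_oddCore (N := center ↥L) hodd)
  have hnc : ¬ IsMulCommutative ↥L := fun hc => Components.qs_center_ne_top hL.2
    (eq_top_iff.2 fun x _ => mem_center_iff.2 fun y => hc.is_comm.comm y x)
  refine ⟨?_, hnc⟩
  haveI : Nontrivial ↥L := Components.qs_nontrivial hL.2
  refine ⟨fun N hN => ?_⟩
  rcases Components.qs_subnormal hL.2 hN.isSubnormal with e | e
  · exact Or.inr e
  · exact Or.inl (le_bot_iff.1 (hz ▸ e))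

/-- A 2-element normalises every component. -/
theorem le_normalizer_component (h : AbSyl X) (hO : Cfsg.oddCore X = ⊥) {L : Subgroup X}
    (hL : Cfsg.IsComponent L) (T : Sylow 2 X) :
    (T : Subgroup X) ≤ normalizer (L : Set X) := by
  intro s hs
  obtain ⟨P₀, hP₀⟩ : ∃ P₀ : Sylow 2 ↥L, ((T : Subgroup X).subgroupOf L : Subgroup ↥L) = P₀ :=
    (Cfsg.Agent.S0542.result 2 L hL.1 T).imp fun _ e => e.symm
  obtain ⟨a, ha⟩ := exists_prime_orderOf_dvd_card' (G := ↥L) 2
    (Components.dvd_card_component (p := 2) hO hL)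
  have hne : (P₀ : Subgroup ↥L) ≠ ⊥ :=
    P₀.ne_bot_of_dvd_card (Components.dvd_card_component (p := 2) hO hL)
  obtain ⟨x, hx, hx1⟩ := (P₀ : Subgroup ↥L).bot_or_exists_ne_one.resolve_left hne
  rw [← hP₀, mem_subgroupOf] at hx
  set L' := L.map (MulAut.conj s).toMonoidHom with hL'def
  have hL' : Cfsg.IsComponent L' := Components.component_conj hL s
  have hxL' : (x : X) ∈ L' := ⟨x, x.2, by
    show s * (x : X) * s⁻¹ = x
    rw [(h.comm T.isPGroup' hs hx).eq, mul_inv_cancel_right]⟩
  by_cases e : L' = L
  · exact Components.mem_normalizer_of_map_conj_eq e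
  · exfalso
    have hz := commutator_eq_bot_iff_le_centralizer.1 (Components.components_commute hL' hL e) hxL'
    have hsimp := component_simple h hO hL
    have hzc : x ∈ center ↥L := mem_center_iff.2 fun y =>
      Subtype.ext (mem_centralizer_iff.1 hz y y.2)
    rcases hsimp.1.eq_bot_or_eq_top_of_normal (center ↥L) inferInstance with e' | e'
    · exact hx1 (by rwa [e', mem_bot] at hzc)
    · exact Components.qs_center_ne_top hL.2 e'

/-- A Sylow 2-subgroup acts on each component by inner automorphisms of it. -/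
theorem exists_inner (h : AbSyl X) (hO : Cfsg.oddCore X = ⊥) {L : Subgroup X}
    (hL : Cfsg.IsComponent L) (T : Sylow 2 X) {s : X} (hs : s ∈ (T : Subgroup X)) :
    ∃ g ∈ (T : Subgroup X) ⊓ L, s * g⁻¹ ∈ centralizer (L : Set X) := by
  have hsN := le_normalizer_component h hO hL T hs
  obtain ⟨P₀, hP₀⟩ : ∃ P₀ : Sylow 2 ↥L, ((T : Subgroup X).subgroupOf L : Subgroup ↥L) = P₀ :=
    (Cfsg.Agent.S0542.result 2 L hL.1 T).imp fun _ e => e.symm
  have hsimp := component_simple h hO hL
  have hcen : center ↥L = ⊥ :=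
    (hsimp.1.eq_bot_or_eq_top_of_normal (center ↥L) inferInstance).resolve_right
      (Components.qs_center_ne_top hL.2)
  let α : MulAut ↥L := MulEquiv.mk'
    { toFun := fun x => ⟨s * x * s⁻¹, (mem_normalizer_iff.1 hsN x).1 x.2⟩
      invFun := fun x => ⟨s⁻¹ * x * s, (mem_normalizer_iff''.1 hsN x).1 x.2⟩
      left_inv := fun x => Subtype.ext (by simp [mul_assoc])
      right_inv := fun x => Subtype.ext (by simp [mul_assoc]) }
    (fun a b => Subtype.ext (by simp [mul_assoc]))
  have hpow : ∀ (n : ℕ) (x : ↥L), (((α ^ n) x : ↥L) : X) = s ^ n * x * (s ^ n)⁻¹ := by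
    intro n
    induction n with
    | zero => intro x; simp
    | succ n ih =>
      intro x
      rw [pow_succ', MulAut.mul_apply]
      show s * (((α ^ n) x : ↥L) : X) * s⁻¹ = _
      rw [ih, pow_succ']
      simp [mul_assoc]
  obtain ⟨k, hk⟩ := T.isPGroup' ⟨s, hs⟩
  have hk' : s ^ 2 ^ k = 1 := by simpa using congrArg Subtype.val hk
  obtain ⟨j, -, hj⟩ := (Nat.dvd_prime_pow Nat.prime_two).1
    (orderOf_dvd_of_pow_eq_one (x := α) (n := 2 ^ k)
      (MulEquiv.ext fun x => Subtype.ext (by rw [hpow, hk']; simp)))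
  obtain ⟨g, hg⟩ := Cfsg.Agent.S4593.result hcen (Components.pPrimeCore_component (p := 2) hO hL)
    P₀ (h.subgroup L P₀) α ⟨j, hj⟩ fun x hx => Subtype.ext (by
      rw [← hP₀, mem_subgroupOf] at hx
      show s * (x : X) * s⁻¹ = x
      rw [(h.comm T.isPGroup' hs hx).eq, mul_inv_cancel_right])
  have hgT : (g : X) ∈ (T : Subgroup X) := by
    have hgk : g ^ 2 ^ k = 1 := by
      have hα : α = MulAut.conj g := MulEquiv.ext hg
      have h1 : MulAut.conj (g ^ 2 ^ k) = 1 := by
        rw [map_pow, ← hα]
        exact MulEquiv.ext fun x => Subtype.ext (by rw [hpow, hk']; simp)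
      have : g ^ 2 ^ k ∈ center ↥L := mem_center_iff.2 fun y => by
        have h2 : g ^ 2 ^ k * y * (g ^ 2 ^ k)⁻¹ = y := DFunLike.congr_fun h1 y
        exact (mul_inv_eq_iff_eq_mul.1 h2).symm
      rwa [hcen, mem_bot] at this
    have hgP : g ∈ (P₀ : Subgroup ↥L) := by
      have hcomm : ∀ x ∈ (P₀ : Subgroup ↥L), g * x * g⁻¹ = x := fun x hx => by
        rw [← hg x]
        refine Subtype.ext ?_
        rw [← hP₀, mem_subgroupOf] at hx
        show s * (x : X) * s⁻¹ = x
        rw [(h.comm T.isPGroup' hs hx).eq, mul_inv_cancel_right]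
      have hz : IsPGroup 2 ↥(zpowers g) := by
        rintro ⟨y, hy⟩
        obtain ⟨i, rfl⟩ := mem_zpowers_iff.1 hy
        refine ⟨k, Subtype.ext ?_⟩
        show (g ^ i) ^ 2 ^ k = 1
        rw [← zpow_natCast, ← zpow_mul, mul_comm, zpow_mul, zpow_natCast, hgk, one_zpow]
      have hn : zpowers g ≤ normalizer ((P₀ : Subgroup ↥L) : Set ↥L) := zpowers_le.2 (by
        rw [mem_normalizer_iff]
        refine fun x => ⟨fun hx => by rw [hcomm x hx]; exact hx, fun hx => ?_⟩
        have h2 := hcomm _ hx
        have h3 : g * x * g⁻¹ = x := mul_left_cancel (mul_right_cancel h2)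
        rwa [h3] at hx)
      exact (P₀.3 (hz.to_sup_of_normal_right' P₀.isPGroup' hn) le_sup_right) ▸
        (le_sup_left : zpowers g ≤ _) (mem_zpowers g)
    rw [← hP₀, mem_subgroupOf] at hgP
    exact hgP
  refine ⟨g, ⟨hgT, g.2⟩, mem_centralizer_iff.2 fun y hy => ?_⟩
  -- `s g⁻¹` is conjugate to `g⁻¹ s` by `g`
  have h5 : ∀ y ∈ L, y * ((g : X)⁻¹ * s) = (g : X)⁻¹ * s * y := by
    intro z hz
    have hz1 : s * z * s⁻¹ = g * z * (g : X)⁻¹ := congrArg Subtype.val (hg ⟨z, hz⟩)
    calc z * ((g : X)⁻¹ * s) = (g : X)⁻¹ * ((g : X) * z * (g : X)⁻¹) * s := by simp [mul_assoc]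
      _ = (g : X)⁻¹ * s * z := by rw [← hz1]; simp [mul_assoc]
  have h7 := congrArg (fun w => (g : X) * w * (g : X)⁻¹) (h5 ((g : X)⁻¹ * y * g)
    (L.mul_mem (L.mul_mem (L.inv_mem g.2) hy) g.2))
  simpa [mul_assoc] using h7

/-- Every Sylow 2-subgroup lies in `F*(X)`. -/
theorem sylow_le_genFitting (h : AbSyl X) (hO : Cfsg.oddCore X = ⊥) (T : Sylow 2 X) :
    (T : Subgroup X) ≤ Cfsg.generalizedFittingSubgroup X := by
  classical
  intro s hs
  set E := Cfsg.layer X
  -- correct `s` component by component
  have key : ∀ Ls : Finset (Subgroup X), (∀ L ∈ Ls, Cfsg.IsComponent L) →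
      ∃ g ∈ E, g ∈ centralizer (Cfsg.fittingSubgroup X : Set X) ∧
        ∀ L ∈ Ls, s * g ∈ centralizer (L : Set X) := by
    intro Ls
    induction Ls using Finset.induction_on with
    | empty => intro _; exact ⟨1, one_mem _, one_mem _, fun L hL => by simp at hL⟩
    | @insert L Ls hni ih =>
      intro hall
      obtain ⟨g, hgE, hgF, hg⟩ := ih fun L' hL' => hall L' (Finset.mem_insert_of_mem hL')
      have hL := hall L (Finset.mem_insert_self _ _)
      -- `g` normalises `L`, and acts on it as an element of `L`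
      obtain ⟨a, ⟨-, ha⟩, hsa⟩ := exists_inner h hO hL T hs
      have hEle : E ≤ normalizer (L : Set X) := Components.layer_le_normalizer_component hL
      obtain ⟨b, hb, hgb⟩ : ∃ b ∈ L, g * b⁻¹ ∈ centralizer (L : Set X) := by
        have hdec : E ≤ L ⊔ centralizer (L : Set X) := sSup_le fun K hK => by
          by_cases e : K = L
          · exact e ▸ le_sup_left
          · exact le_sup_of_le_right
              (commutator_eq_bot_iff_le_centralizer.1 (Components.components_commute hK hL e))
        have hLC : L ≤ normalizer ((centralizer (L : Set X) : Subgroup X) : Set X) := fun x hx => by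
          rw [mem_normalizer_iff]
          have hfix : ∀ x ∈ L, ∀ c ∈ centralizer (L : Set X), x * c * x⁻¹ = c := fun x hx c hc => by
            rw [mem_centralizer_iff.1 hc x hx, mul_inv_cancel_right]
          refine fun c => ⟨fun hc => by rw [hfix x hx c hc]; exact hc, fun hc => ?_⟩
          have := hfix x⁻¹ (inv_mem hx) _ hc
          rw [show x⁻¹ * (x * c * x⁻¹) * x⁻¹⁻¹ = c by group] at this
          rw [this]; exact hc
        have hg' := hdec hgE
        rw [← SetLike.mem_coe, coe_mul_of_left_le_normalizer_right _ _ hLC] at hg'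
        obtain ⟨b, hb, c, hc, e⟩ := hg'
        refine ⟨b, hb, ?_⟩
        show g * b⁻¹ ∈ _
        have hcb : b * c * b⁻¹ = c := by rw [mem_centralizer_iff.1 hc b hb, mul_inv_cancel_right]
        rw [← e]
        show b * c * b⁻¹ ∈ centralizer (L : Set X)
        rw [hcb]; exact hc
      refine ⟨g * (b⁻¹ * a⁻¹), mul_mem hgE (mul_mem (inv_mem (Components.component_le_layer hL hb))
        (inv_mem (Components.component_le_layer hL ha))), mul_mem hgF ?_, ?_⟩
      · have hLF : L ≤ centralizer (Cfsg.fittingSubgroup X : Set X) :=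
          commutator_eq_bot_iff_le_centralizer.1 (Components.component_commutator_fitting hL)
        exact mul_mem (inv_mem (hLF hb)) (inv_mem (hLF ha))
      · intro L' hL'
        rcases Finset.mem_insert.1 hL' with rfl | hL'
        · -- on `L` itself
          have hc : g * b⁻¹ ∈ centralizer (L' : Set X) := hgb
          have hca : a * (g * b⁻¹) = g * b⁻¹ * a := mem_centralizer_iff.1 hc a ha
          have e : s * (g * (b⁻¹ * a⁻¹)) = s * a⁻¹ * (g * b⁻¹) := by
            have : g * (b⁻¹ * a⁻¹) = a⁻¹ * (g * b⁻¹) := by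
              rw [← mul_assoc]
              have := congrArg (fun w => a⁻¹ * w * a⁻¹) hca
              simpa [mul_assoc] using this
            rw [this, mul_assoc]
          rw [e]; exact mul_mem hsa hc
        · have hne : L ≠ L' := fun e => hni (e ▸ hL')
          have hcomm : L ≤ centralizer (L' : Set X) := commutator_eq_bot_iff_le_centralizer.1
            (Components.components_commute hL (hall L' (Finset.mem_insert_of_mem hL')) hne)
          rw [← mul_assoc]
          exact mul_mem (hg L' hL') (mul_mem (inv_mem (hcomm hb)) (inv_mem (hcomm ha)))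
  obtain ⟨Ls, hLs⟩ : ∃ Ls : Finset (Subgroup X), ∀ L, L ∈ Ls ↔ Cfsg.IsComponent L :=
    ⟨(Set.toFinite {L : Subgroup X | Cfsg.IsComponent L}).toFinset, fun L => by simp⟩
  obtain ⟨g, hgE, hgF, hg⟩ := key Ls fun L hL => (hLs L).1 hL
  have hsg : Cfsg.generalizedFittingSubgroup X ≤ centralizer ({s * g} : Set X) := by
    refine sup_le (sSup_le fun L hL => fun x hx => mem_centralizer_singleton_iff.2
      (mem_centralizer_iff.1 (hg L ((hLs L).2 hL)) x hx)) fun f hf => mem_centralizer_singleton_iff.2 ?_
    have h1 : Commute f s := h.comm T.isPGroup'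
      (Cores.pCore_le_sylow T (Components.fitting_le_pCore (p := 2) hO hf)) hs
    have h2 : Commute f g := mem_centralizer_iff.1 hgF f hf
    exact (h1.mul_right h2).eq
  have hc : s * g ∈ Cfsg.generalizedFittingSubgroup X :=
    Components.centralizer_genFitting_le (mem_centralizer_iff.2 fun x hx =>
      mem_centralizer_singleton_iff.1 (hsg hx))
  simpa [mul_assoc] using mul_mem hc (inv_mem (show g ∈ Cfsg.generalizedFittingSubgroup X from
    le_sup_left (a := Cfsg.layer X) hgE))

/-- `F*(X)` has odd index. -/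
theorem odd_index_genFitting (h : AbSyl X) (hO : Cfsg.oddCore X = ⊥) :
    Odd (Cfsg.generalizedFittingSubgroup X).index := by
  obtain ⟨T⟩ : Nonempty (Sylow 2 X) := inferInstance
  exact Odd.of_dvd_nat (Nat.odd_iff.2 (Nat.two_dvd_ne_zero.1 T.not_dvd_index))
    (Subgroup.index_dvd_of_le (sylow_le_genFitting h hO T))

/-- The components of a small group have the shapes of the classification. -/
theorem component_shape {n : ℕ} (hsmall : Small.{u} n) (hn : Nat.card X < n) (h : AbSyl X)
    (hO : Cfsg.oddCore X = ⊥) {L : Subgroup X} (hL : Cfsg.IsComponent L) : Shape ↥L :=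
  hsmall ↥L ((Subgroup.card_le_card_group L).trans_lt hn) (component_simple h hO hL).1
    (component_simple h hO hL).2 (h.subgroup L)

end Cfsg.Agent.H10.Walter
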